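import Groth.Agent.PnSpec.Twist
import Groth.Agent.W7Hull.RelVanish
import Groth.Agent.FibVan.BaseChange
import Groth.Agent.ProjCech.Main
import Groth.Agent.HQProj.Basic
import Groth.Agent.CohFinite.Serre

/-!
Higher direct images of the twisting sheaves of relative projective space over any scheme.
-/

set_option autoImplicit false
set_option linter.style.haveILetI false
set_option backward.isDefEq.respectTransparency false
set_option backward.isDefEq.respectTransparency.types false

universe u

open CategoryTheory CategoryTheory.Limits AlgebraicGeometry TopologicalSpace Opposite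

noncomputable section

namespace Groth.Agent.TwistOverVan

/-- vanishing of cohomology passes along isomorphisms of schemes -/
theorem subsingleton_hh_pullback_iso {Z W : Scheme.{u}} (e : Z ⟶ W) [IsIso e] (P : W.Modules) (hP : Coh.IsQCoh P)
    (i : ℕ) (h : Subsingleton (Coh.HH W P i)) : Subsingleton (Coh.HH Z ((Scheme.Modules.pullback e).obj P) i) := by
  haveI : ((Scheme.Modules.pullback e).obj P).IsQuasicoherent := QC.isQCoh_pullback e hP
  haveI : (Scheme.Modules.pullback e).IsEquivalence :=
    (CategoryTheory.Equivalence.mk (Scheme.Modules.pullback e) (Scheme.Modules.pullback (inv e))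
      ((Scheme.Modules.pullbackId W).symm ≪≫ Scheme.Modules.pullbackCongr (IsIso.inv_hom_id e).symm ≪≫
        (Scheme.Modules.pullbackComp (inv e) e).symm)
      (Scheme.Modules.pullbackComp e (inv e) ≪≫ Scheme.Modules.pullbackCongr (IsIso.hom_inv_id e) ≪≫
        Scheme.Modules.pullbackId Z)).isEquivalence_functor
  haveI : IsIso ((Scheme.Modules.pullbackPushforwardAdjunction e).unit.app P) :=
    haveI := (Scheme.Modules.pullbackPushforwardAdjunction e).unit_isIso_of_L_fully_faithful
    inferInstance
  exact FibVan.subsingleton_hh_push e _ i (CohQC.hh_subsingleton_of_iso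
    (asIso ((Scheme.Modules.pullbackPushforwardAdjunction e).unit.app P)) i h)

variable (n : ℕ) (Y : Scheme.{u})

theorem isQCoh_twistOver (d : ℤ) : Coh.IsQCoh (Twist.twistOver n Y d) :=
  TMul.isQCoh_of_isInvertible (PicLoc.isInvertible_pullback _ (CohFinite.isInvertible_twist n _ d))

/-- cohomology of twists over preimages of affine opens -/
theorem subsingleton_hu_twistOver {V : Y.Opens} (hV : IsAffineOpen V) (i : ℕ) (d : ℤ)
    (h₀ : ¬ (i = 0 ∧ 0 ≤ d)) (hn : ¬ (i = n ∧ d ≤ -((n : ℤ) + 1))) :
    Subsingleton (CohSite.HU (Coh.toAb (Twist.twistOver n Y d)) i (CohB1.ProjSpaceOver.toBase n Y ⁻¹ᵁ V)) := by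
  let A := Γ(Y, V)
  let j := hV.fromSpec
  let f := CohB1.ProjSpaceOver.toBase n Y
  let fA := CohB1.ProjSpaceOver.toBase n (Spec A)
  let a := CohB1.ProjSpace.toSpec n (ULift.{u} ℤ)
  let g : CohB1.ProjSpaceOver n (Spec A) ⟶ CohB1.ProjSpaceOver n Y :=
    pullback.lift (pullback.fst a (specULiftZIsTerminal.from (Spec A))) (fA ≫ j)
      (by rw [pullback.condition, Category.assoc, specULiftZIsTerminal.hom_ext (j ≫ _) (specULiftZIsTerminal.from _)]
          rfl)
  have hg1 : g ≫ pullback.fst a (specULiftZIsTerminal.from Y) =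
      pullback.fst a (specULiftZIsTerminal.from (Spec A)) := pullback.lift_fst _ _ _
  have hg2 : g ≫ f = fA ≫ j := pullback.lift_snd _ _ _
  have hsq : IsPullback g fA f j :=
    IsPullback.of_right
      (by
        rw [hg1, specULiftZIsTerminal.hom_ext (j ≫ _) (specULiftZIsTerminal.from _)]
        exact IsPullback.of_hasPullback a (specULiftZIsTerminal.from (Spec A)))
      hg2 (IsPullback.of_hasPullback a (specULiftZIsTerminal.from Y))
  obtain ⟨e, -, he⟩ := PnSpec.exists_iso_twist n A
  obtain ⟨t⟩ := he d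
  haveI : IsOpenImmersion g := MorphismProperty.of_isPullback hsq.flip (inferInstanceAs (IsOpenImmersion j))
  let W := f ⁻¹ᵁ V
  let q : CohB1.ProjSpace n A ⟶ CohB1.ProjSpaceOver n Y := e.hom ≫ g
  have hr : Set.range q = Set.range W.ι := by
    rw [Scheme.Opens.range_ι, show Set.range q = Set.range g from
      (Scheme.homeoOfIso e).surjective.range_comp g]
    refine Eq.trans (b := Set.range (pullback.fst f j)) ?_ ?_
    · rw [← hsq.isoPullback_hom_fst]
      exact (Scheme.homeoOfIso hsq.isoPullback).surjective.range_comp (pullback.fst f j)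
    · rw [Scheme.Pullback.range_fst, hV.range_fromSpec]
      rfl
  let κ : W.toScheme ≅ CohB1.ProjSpace n A := IsOpenImmersion.isoOfRangeEq W.ι q hr.symm
  have hκ : κ.hom ≫ q = W.ι := IsOpenImmersion.isoOfRangeEq_hom_fac _ _ _
  have hP : Coh.IsQCoh (Twist.twistProjSpace n A d) :=
    TMul.isQCoh_of_isInvertible (CohFinite.isInvertible_twist n A d)
  let i₁ : (Scheme.Modules.pullback q).obj (Twist.twistOver n Y d) ≅ Twist.twistProjSpace n A d :=
    ((Scheme.Modules.pullbackComp e.hom g).app _).symm ≪≫
      (Scheme.Modules.pullback e.hom).mapIso ((Scheme.Modules.pullbackComp g _).app _ ≪≫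
        (Scheme.Modules.pullbackCongr hg1).app _) ≪≫ t
  let i₂ : (Scheme.Modules.pullback κ.hom).obj (Twist.twistProjSpace n A d) ≅
      (Twist.twistOver n Y d).restrict W.ι :=
    (Scheme.Modules.pullback κ.hom).mapIso i₁.symm ≪≫ (Scheme.Modules.pullbackComp κ.hom q).app _ ≪≫
      (Scheme.Modules.pullbackCongr hκ).app _ ≪≫ ((Scheme.Modules.restrictFunctorIsoPullback W.ι).app _).symm
  have h := CohQC.hh_subsingleton_of_iso i₂ i
    (subsingleton_hh_pullback_iso κ.hom _ hP i (ProjCech.twist_vanish n d i h₀ hn))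
  obtain ⟨c⟩ := CohQC.hu_restrict (Twist.twistOver n Y d) W i
  exact c.toEquiv.subsingleton

/-- `R^i f_* O(d) = 0` outside the two exceptional ranges -/
theorem isZero_rpushAb (i : ℕ) (d : ℤ) (h₀ : ¬ (i = 0 ∧ 0 ≤ d)) (hn : ¬ (i = n ∧ d ≤ -((n : ℤ) + 1))) :
    IsZero ((Coh.RpushAb (CohB1.ProjSpaceOver.toBase n Y) i).obj (Coh.toAb (Twist.twistOver n Y d))) := by
  haveI := HQProj.isProper_toBase n Y
  refine W7Hull.isZero_rpushAb_of_cover _ _ (isQCoh_twistOver n Y d) i fun y => ?_
  obtain ⟨V, hV, hyV, -⟩ := exists_isAffineOpen_mem_and_subset (X := Y) (x := y) (U := ⊤) trivial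
  exact ⟨V, hV, hyV, subsingleton_hu_twistOver n Y hV i d h₀ hn⟩

end Groth.Agent.TwistOverVan

end
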